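import Cfsg.Agent.Lib.ClassK.Simple360
import Cfsg.Agent.Lib.ClassK.SmallSimple
import Cfsg.Agent.Lib.ClassK.Simple2520Final
import Mathlib.GroupTheory.SpecificGroups.Alternating.Simple

/-!
# The conclusion of the centraliser-of-order-four theorem, by order
-/

set_option autoImplicit false

universe u

namespace CfsgLib.ClassK.FourCent

/-- The four possible groups. -/
def Concl (G : Type u) [Group G] : Prop :=
  Nonempty (G ≃* ↥(alternatingGroup (Fin 5))) ∨ Nonempty (G ≃* ↥(alternatingGroup (Fin 6))) ∨
    Nonempty (G ≃* ↥(alternatingGroup (Fin 7))) ∨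
    (∃ (F : Type) (_ : Field F) (_ : Fintype F), Fintype.card F = 7 ∧
      Nonempty (G ≃* Matrix.ProjectiveSpecialLinearGroup (Fin 2) F))

variable {G : Type u} [Group G] [Finite G] [IsSimpleGroup G]

theorem concl_of_card (h : Nat.card G = 360 ∨ Nat.card G = 168 ∨ Nat.card G = 2520) : Concl G := by
  rcases h with h | h | h
  · haveI := alternatingGroup.isSimpleGroup (α := Fin 6) (by simp)
    exact Or.inr (Or.inl (CfsgLib.ClassK.nonempty_equiv_360 h (by
      rw [nat_card_alternatingGroup, Nat.card_fin]; rfl)))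
  · haveI := Fact.mk (show Nat.Prime 7 by norm_num)
    haveI := CfsgLib.ClassK.isSimpleGroup_psl_two (F := ZMod 7) (by simp)
    refine Or.inr (Or.inr (Or.inr ⟨ZMod 7, inferInstance, inferInstance, by simp,
      CfsgLib.ClassK.nonempty_equiv_168 h ?_⟩))
    exact CfsgLib.Classical.card_psl_two_eq (q := 7) (by simp) 168 (by decide)
  · obtain ⟨H, hH⟩ := CfsgLib.ClassK.Simple2520.exists_index_seven h
    exact Or.inr (Or.inr (Or.inl (CfsgLib.ClassK.Simple2520.iso_of_index_seven h hH)))

end CfsgLib.ClassK.FourCent
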