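import Cfsg.Agent.Lib.ClassK.FourCent.Recog
import Cfsg.Agent.Lib.Invol.BrauerSuzuki
import Cfsg.Agent.Lib.Invol.QDClasses
import Cfsg.Agent.Lib.Invol.MetacyclicTwo
import Cfsg.Agent.Lib.Recog.SelfCentThree.Final
import Cfsg.Agent.Lib.InvChar.KleinCentralizerFive

/-!
# A simple group with a centraliser of order at most four: reduction to dihedral Sylow of order eight
-/

set_option autoImplicit false
set_option linter.style.haveILetI false
set_option linter.unusedSectionVars false

universe u

namespace CfsgLib.ClassK.FourCent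

open Subgroup

theorem orderOf_cj {K : Type*} [Group K] (g x : K) : orderOf (g * x * g⁻¹) = orderOf x :=
  MulEquiv.orderOf_eq (MulAut.conj g) x

theorem mem_lt {K : Type*} [Group K] [Finite K] {g x : K} (h : x ∈ zpowers g) : ∃ i < orderOf g, g ^ i = x := by
  obtain ⟨k, hk⟩ := mem_powers_iff_mem_zpowers.2 h
  exact ⟨k % orderOf g, Nat.mod_lt _ (orderOf_pos g), by rw [pow_mod_orderOf]; exact hk⟩

theorem exp_two {K : Type*} [Group K] [Finite K] (h : Nat.card K = 4) (hc : ¬ IsCyclic K) :
    Monoid.exponent K = 2 := by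
  have : Nontrivial K := Finite.one_lt_card_iff_nontrivial.1 (by omega)
  refine (Nat.dvd_prime Nat.prime_two).1 (Monoid.exponent_dvd_of_forall_pow_eq_one fun x => ?_) |>.resolve_left ?_
  · have hd := orderOf_dvd_natCard x
    rw [h] at hd
    have hne : orderOf x ≠ 4 := fun e => hc (isCyclic_of_orderOf_eq_card x (by rw [e, h]))
    have := Nat.le_of_dvd (by norm_num) hd
    rw [← orderOf_dvd_iff_pow_eq_one]
    interval_cases (orderOf x) <;> omega
  · intro e
    exact not_subsingleton K (Monoid.exp_eq_one_iff.1 e)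

theorem quat_invol {k : ℕ} [NeZero k] (q : QuaternionGroup k) (h : orderOf q = 2) :
    q = QuaternionGroup.a (k : ZMod (2 * k)) := by
  rcases q with i | i
  · rw [QuaternionGroup.orderOf_a] at h
    congr 1
    have hi : i.val < 2 * k := ZMod.val_lt i
    have hg : (2 * k).gcd i.val = k := by
      have := Nat.div_mul_cancel (Nat.gcd_dvd_left (2 * k) i.val)
      rw [h] at this; omega
    have hd : k ∣ i.val := by have := Nat.gcd_dvd_right (2 * k) i.val; rwa [hg] at this
    obtain ⟨t, ht⟩ := hd
    have ht2 : t < 2 := by rw [ht] at hi; by_contra hh; push Not at hh; have := Nat.mul_le_mul_left k hh; omega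
    interval_cases t
    · rw [ht, mul_zero, Nat.gcd_zero_right] at hg; have := NeZero.ne k; omega
    · rw [mul_one] at ht
      rw [← ZMod.natCast_zmod_val i, ht]
  · rw [QuaternionGroup.orderOf_xa] at h; omega

variable {G : Type u} [Group G] [Finite G] [IsSimpleGroup G]

theorem not_comm (hG : ¬ IsCyclic G) : ¬ IsMulCommutative G := fun h => by
  letI : CommGroup G := { ‹Group G› with mul_comm := h.is_comm.comm }
  exact hG inferInstance

theorem center_bot (hG : ¬ IsCyclic G) : center G = ⊥ :=
  CfsgLib.Invol.center_eq_bot_of_simple (not_comm hG)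

/-- A Sylow 2-subgroup has a four-group. -/
theorem exists_klein (hG : ¬ IsCyclic G) (h2 : Even (Nat.card G)) : ∃ E : Subgroup G, IsKleinFour E := by
  by_contra hno
  push Not at hno
  obtain ⟨z, hz, hz2⟩ := CfsgLib.Invol.centralInvol G h2 hno fun N hN hodd => by
    rcases hN.eq_bot_or_eq_top with h | h
    · exact h
    · exfalso
      rw [h, card_top] at hodd
      exact (Nat.not_odd_iff_even.2 h2) hodd
  rw [center_bot hG, mem_bot] at hz
  rw [hz, orderOf_one] at hz2
  omega

theorem comm_of_nilpotent [Group.IsNilpotent G] : IsMulCommutative G := by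
  rcases (inferInstance : (commutator G).Normal).eq_bot_or_eq_top with h | h
  · exact ⟨⟨fun a b => commutatorElement_eq_one_iff_mul_comm.1 ((Subgroup.eq_bot_iff_forall _).1 h _
      (commutator_mem_commutator (mem_top a) (mem_top b)))⟩⟩
  · exact absurd h (ne_top_of_lt (IsSolvable.commutator_lt_top_of_nontrivial G))

theorem pResidual_top (hG : ¬ IsCyclic G) : Cfsg.pResidual 2 G = ⊤ := by
  haveI : Fact (Nat.Prime 2) := ⟨Nat.prime_two⟩
  refine ((CfsgLib.Transfer.pResidual_normal (G := G) (p := 2)).eq_bot_or_eq_top).resolve_left fun h => ?_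
  obtain ⟨n, hn⟩ := CfsgLib.Transfer.pResidual_index_eq_pow (G := G) (p := 2)
  rw [h, index_bot] at hn
  haveI := (IsPGroup.of_card hn).isNilpotent
  haveI : Group.IsNilpotent G := inferInstance
  exact not_comm hG comm_of_nilpotent

theorem c_ne_one (hG : ¬ IsCyclic G) {w : G} (hw : Nat.card (centralizer ({w} : Set G)) ≤ 4) : w ≠ 1 := by
  rintro rfl
  have : centralizer ({(1 : G)} : Set G) = ⊤ :=
    eq_top_iff.2 fun g _ => mem_centralizer_singleton_iff.2 (by rw [mul_one, one_mul])
  rw [this, card_top] at hw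
  have := CfsgLib.Invol.thirteen_le_card_of_simple (not_comm hG)
  omega

theorem card_zp_dvd (w : G) : orderOf w ∣ Nat.card (centralizer ({w} : Set G)) := by
  rw [← Nat.card_zpowers]
  exact card_dvd_of_le (zpowers_le.2 (mem_centralizer_singleton_iff.2 rfl))

theorem concl_three (hG : ¬ IsCyclic G) {w : G} (h3 : orderOf w = 3)
    (hC : centralizer ({w} : Set G) = zpowers w) : Concl G := by
  have hX : centralizer ((zpowers w : Subgroup G) : Set G) = zpowers w := by
    refine le_antisymm (fun g hg => ?_) (fun g hg => ?_)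
    · rw [← hC]
      exact mem_centralizer_singleton_iff.2 (mem_centralizer_iff.1 hg w (mem_zpowers w)).symm
    · rw [mem_centralizer_iff]
      rintro a ⟨i, rfl⟩
      obtain ⟨j, rfl⟩ := hg
      exact ((Commute.refl w).zpow_zpow i j).eq
  have h13 := CfsgLib.Invol.thirteen_le_card_of_simple (not_comm hG)
  rcases CfsgLib.Recog.SelfCentThree.main (zpowers w) (by rw [Nat.card_zpowers, h3]) hX with
    ⟨N, hN, hnil, -, hq⟩ | ⟨N, hN, hc, -, ⟨e⟩⟩ | h7
  · exfalso
    rcases hN.eq_bot_or_eq_top with rfl | rfl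
    · have e := QuotientGroup.quotientBot (G := G)
      have : Nat.card G = 3 ∨ Nat.card G = 6 := by
        rcases hq with h | ⟨⟨f⟩⟩
        · exact Or.inl ((Nat.card_congr e.toEquiv).symm.trans h)
        · refine Or.inr ((Nat.card_congr (e.symm.trans f).toEquiv).trans ?_)
          rw [Nat.card_perm, Nat.card_fin]; rfl
      omega
    · haveI := hnil
      haveI : Group.IsNilpotent G := Group.nilpotent_of_mulEquiv topEquiv
      exact not_comm hG comm_of_nilpotent
  · rcases hN.eq_bot_or_eq_top with rfl | rfl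
    · exact Or.inl ⟨QuotientGroup.quotientBot.symm.trans e⟩
    · exact absurd ⟨⟨fun a b => congrArg Subtype.val (hc.is_comm.comm ⟨a, mem_top a⟩ ⟨b, mem_top b⟩)⟩⟩
        (not_comm hG)
  · haveI := Fact.mk (show Nat.Prime 7 by norm_num)
    obtain ⟨e⟩ := h7
    exact Or.inr (Or.inr (Or.inr ⟨ZMod 7, inferInstance, inferInstance, by simp, ⟨e⟩⟩))

/-- An element of order four with centraliser of order four forces a dihedral Sylow subgroup of order eight. -/
theorem dihedral_of_four (hG : ¬ IsCyclic G) {w : G} (h4 : orderOf w = 4)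
    (hC : centralizer ({w} : Set G) = zpowers w) :
    ∃ S : Sylow 2 G, w ∈ (S : Subgroup G) ∧ Nat.card S = 8 ∧
      Nonempty ((S : Subgroup G) ≃* DihedralGroup 4) := by
  haveI : Fact (Nat.Prime 2) := ⟨Nat.prime_two⟩
  have h2 : Even (Nat.card G) := even_iff_two_dvd.2
    ((show 2 ∣ orderOf w by omega).trans (orderOf_dvd_natCard w))
  obtain ⟨S, hS⟩ := (IsPGroup.of_card (n := 2) (by rw [Nat.card_zpowers, h4]; rfl) :
    IsPGroup 2 (zpowers w)).exists_le_sylow
  have hwS : w ∈ (S : Subgroup G) := hS (mem_zpowers w)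
  refine ⟨S, hwS, ?_⟩
  obtain ⟨n, hn⟩ := IsPGroup.iff_card.1 S.isPGroup'
  set v : (S : Subgroup G) := ⟨w, hwS⟩
  have hv : orderOf v = 4 := by rw [← Subgroup.orderOf_coe]; exact h4
  have hCv : centralizer ((zpowers v : Subgroup (S : Subgroup G)) : Set (S : Subgroup G)) = zpowers v := by
    refine le_antisymm (fun g hg => ?_) (fun g hg => ?_)
    · have : (g : G) ∈ zpowers w := hC ▸ mem_centralizer_singleton_iff.2
        (congrArg Subtype.val (mem_centralizer_iff.1 hg v (mem_zpowers v))).symm
      obtain ⟨i, hi⟩ := this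
      exact ⟨i, Subtype.ext (by rw [SubgroupClass.coe_zpow]; exact hi)⟩
    · rw [mem_centralizer_iff]
      rintro a ⟨i, rfl⟩
      obtain ⟨j, rfl⟩ := hg
      exact ((Commute.refl v).zpow_zpow i j).eq
  have hn2 : 2 ≤ n := by
    have hd := orderOf_dvd_natCard v
    rw [hv, hn] at hd
    exact (Nat.pow_le_pow_iff_right (by norm_num : 1 < 2)).1 (by simpa using Nat.le_of_dvd (by positivity) hd)
  have hmc := CfsgLib.Transfer.maxClass_of_self_centralizing hn (zpowers v)
    (by rw [Nat.card_zpowers, hv]; rfl) hCv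
  obtain ⟨E, hE⟩ := exists_klein hG h2
  have hnoQ : ¬ ∀ x y : (S : Subgroup G), orderOf x = 2 → orderOf y = 2 → x = y := by
    intro huniq
    obtain ⟨g, hg⟩ := CfsgLib.Invol.exists_conj_mem_sylow S (IsPGroup.of_card (n := 2) hE.card_four)
    let f : E → (S : Subgroup G) := fun e => ⟨g * e * g⁻¹, hg e e.2⟩
    have hf : Function.Injective f := fun a b h => Subtype.ext (by
      have := congrArg Subtype.val h
      simpa [f] using this)
    have ho : ∀ e : E, e ≠ 1 → orderOf (f e) = 2 := fun e he => by
      rw [← Subgroup.orderOf_coe]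
      show orderOf (g * e * g⁻¹) = 2
      rw [orderOf_cj, Subgroup.orderOf_coe]
      exact orderOf_eq_prime (by rw [pow_two]; exact IsKleinFour.mul_self e) he
    haveI := Fintype.ofFinite E
    have hlt : 2 < Fintype.card E := by rw [← Nat.card_eq_fintype_card, hE.card_four]; norm_num
    obtain ⟨a, b, c, hab, hac, hbc⟩ := Fintype.two_lt_card_iff.1 hlt
    rcases eq_or_ne a 1 with rfl | ha
    · exact hbc (hf (huniq _ _ (ho b hab.symm) (ho c hac.symm)))
    · rcases eq_or_ne b 1 with rfl | hb
      · exact hac (hf (huniq _ _ (ho a ha) (ho c hbc.symm)))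
      · exact hab (hf (huniq _ _ (ho a ha) (ho b hb)))
  rcases eq_or_lt_of_le hn2 with rfl | hn3
  · refine absurd ?_ hnoQ
    have htop : zpowers v = ⊤ := eq_top_of_card_eq _ (by rw [Nat.card_zpowers, hv, hn]; rfl)
    intro x y hx hy
    have key : ∀ x : (S : Subgroup G), orderOf x = 2 → x = v ^ 2 := by
      intro x hx
      obtain ⟨i, hi, rfl⟩ := mem_lt (htop.ge (mem_top x))
      rw [hv] at hi
      interval_cases i
      · rw [pow_zero, orderOf_one] at hx; omega
      · rw [pow_one, hv] at hx; omega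
      · rfl
      · rw [Nat.Coprime.orderOf_pow (by rw [hv]; norm_num), hv] at hx; omega
    rw [key x hx, key y hy]
  rcases CfsgLib.Invol.maxClass_two_types hn3 hn hmc with ⟨k, ⟨e⟩⟩ | ⟨k, ⟨e⟩⟩ | hQD
  · have hk : Nat.card (DihedralGroup k) = 2 ^ n := (Nat.card_congr e.toEquiv).symm.trans hn
    rw [DihedralGroup.nat_card] at hk
    have hk0 : k ≠ 0 := by
      intro h; rw [h] at hk; have := pow_pos (show 0 < 2 by norm_num) n; omega
    haveI : NeZero k := ⟨hk0⟩
    have hev : orderOf (e v) = 4 := by rw [MulEquiv.orderOf_eq, hv]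
    obtain ⟨i, hi⟩ : ∃ i : ZMod k, e v = DihedralGroup.r i := by
      cases h : e v with
      | r i => exact ⟨i, rfl⟩
      | sr i => rw [h, DihedralGroup.orderOf_sr] at hev; omega
    have hle : (zpowers (DihedralGroup.r (1 : ZMod k))).comap e.toMonoidHom ≤ zpowers v := by
      rw [← hCv]
      intro g hg
      rw [mem_centralizer_iff]
      rintro a ⟨j, rfl⟩
      obtain ⟨l, hl⟩ := mem_comap.1 hg
      have hr : DihedralGroup.r i ∈ zpowers (DihedralGroup.r (1 : ZMod k)) :=
        ⟨(i.val : ℤ), by simp [DihedralGroup.r_one_zpow]⟩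
      obtain ⟨i', hi'⟩ := hr
      simp only at hi' hl
      refine ((show Commute v g from e.injective ?_).zpow_left j).eq
      have hc := ((Commute.refl (DihedralGroup.r (1 : ZMod k))).zpow_zpow i' l).eq
      rw [hi', hl, ← hi] at hc
      simpa using hc
    have hcard : Nat.card ((zpowers (DihedralGroup.r (1 : ZMod k))).comap e.toMonoidHom) = k := by
      rw [show (zpowers (DihedralGroup.r (1 : ZMod k))).comap e.toMonoidHom = (zpowers (DihedralGroup.r (1 : ZMod k))).map e.symm.toMonoidHom from
        Subgroup.comap_equiv_eq_map_symm' e _, card_map_of_injective e.symm.injective, Nat.card_zpowers,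
        DihedralGroup.orderOf_r_one]
    have hk4 : k ≤ 4 := by
      have := card_le_of_le hle
      rw [hcard, Nat.card_zpowers, hv] at this
      exact this
    have h8 : 8 ≤ 2 ^ n := by
      calc 8 = 2 ^ 3 := rfl
        _ ≤ 2 ^ n := Nat.pow_le_pow_right (by norm_num) hn3
    obtain rfl : k = 4 := by omega
    exact ⟨by rw [hn]; omega, ⟨e⟩⟩
  · exfalso
    apply hnoQ
    have hk0 : k ≠ 0 := by
      rintro rfl
      have h := (Nat.card_congr e.toEquiv).symm.trans hn
      haveI : Infinite (QuaternionGroup 0) := Infinite.of_injective (fun i : ℤ => QuaternionGroup.a (i : ZMod (2 * 0))) fun a b h => by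
        have h' := QuaternionGroup.a.inj h
        exact_mod_cast h'
      rw [Nat.card_eq_zero_of_infinite] at h
      have := pow_pos (show 0 < 2 by norm_num) n
      omega
    haveI : NeZero k := ⟨hk0⟩
    have key : ∀ q : QuaternionGroup k, orderOf q = 2 → q = QuaternionGroup.a (k : ZMod (2 * k)) :=
      quat_invol
    intro x y hx hy
    exact e.injective ((key _ (by rw [MulEquiv.orderOf_eq, hx])).trans (key _ (by rw [MulEquiv.orderOf_eq, hy])).symm)
  · exfalso
    obtain ⟨D, m, hm, hDm, -⟩ := CfsgLib.Invol.exists_qdData hQD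
    have h4' : IsConj (CfsgLib.Invol.qa S D) (CfsgLib.Invol.qb S D) := by
      by_contra h4'
      have h := CfsgLib.Invol.qd_residual_dih S D hDm h4'
      rw [pResidual_top hG, top_inf_eq] at h
      have h2' := CfsgLib.Invol.qd_relIndex_map S (M := D.dihMax) D.index_dihMax
      rw [le_antisymm (map_subtype_le _) h, relIndex_self] at h2'
      omega
    have hwa : IsConj w (CfsgLib.Invol.qa S D) :=
      (CfsgLib.Invol.qd_four_cases S D (s := v) h4).elim id (fun h => h.trans h4'.symm)
    obtain ⟨c, hc⟩ := isConj_iff.1 hwa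
    have hle : ((zpowers D.x).map (S : Subgroup G).subtype).map (MulAut.conj c⁻¹).toMonoidHom ≤
        centralizer ({w} : Set G) := by
      rintro _ ⟨_, ⟨x, ⟨i, rfl⟩, rfl⟩, rfl⟩
      rw [mem_centralizer_singleton_iff]
      show c⁻¹ * _ * c⁻¹⁻¹ * w = w * (c⁻¹ * _ * c⁻¹⁻¹)
      have hcm : Commute ((S : Subgroup G).subtype (D.x ^ i)) (CfsgLib.Invol.qa S D) :=
        ((Commute.refl D.x).zpow_zpow i _).map (S : Subgroup G).subtype
      rw [← hc] at hcm
      have h := hcm.eq
      calc c⁻¹ * (S : Subgroup G).subtype (D.x ^ i) * c⁻¹⁻¹ * w =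
            c⁻¹ * ((S : Subgroup G).subtype (D.x ^ i) * (c * w * c⁻¹)) * c := by group
        _ = c⁻¹ * ((c * w * c⁻¹) * (S : Subgroup G).subtype (D.x ^ i)) * c := by rw [h]
        _ = _ := by group
    have h1 := card_le_of_le hle
    rw [card_map_of_injective (MulAut.conj c⁻¹).injective,
      card_map_of_injective (Subgroup.subtype_injective _), Nat.card_zpowers, D.orderOf_x, hC,
      Nat.card_zpowers, h4] at h1
    have := D.two_le
    omega

/-- **Reduction.** -/
theorem reduce (hG : ¬ IsCyclic G) (w : G) (hw : Nat.card (centralizer ({w} : Set G)) ≤ 4) :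
    Concl G ∨ ∃ (v : G) (S : Sylow 2 G), orderOf v = 4 ∧ centralizer ({v} : Set G) = zpowers v ∧
      v ∈ (S : Subgroup G) ∧ Nat.card S = 8 ∧ Nonempty ((S : Subgroup G) ≃* DihedralGroup 4) := by
  haveI : Fact (Nat.Prime 2) := ⟨Nat.prime_two⟩
  have four : ∀ v : G, orderOf v = 4 → centralizer ({v} : Set G) = zpowers v →
      ∃ (v : G) (S : Sylow 2 G), orderOf v = 4 ∧ centralizer ({v} : Set G) = zpowers v ∧
        v ∈ (S : Subgroup G) ∧ Nat.card S = 8 ∧ Nonempty ((S : Subgroup G) ≃* DihedralGroup 4) :=
    fun v h4 hC => ⟨v, (dihedral_of_four hG h4 hC).choose, h4, hC, (dihedral_of_four hG h4 hC).choose_spec⟩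
  have hd := card_zp_dvd w
  have h1 : orderOf w ≠ 1 := fun h => c_ne_one hG hw (orderOf_eq_one_iff.1 h)
  have hpos : 0 < Nat.card (centralizer ({w} : Set G)) := Nat.card_pos
  have hle : zpowers w ≤ centralizer ({w} : Set G) := zpowers_le.2 (mem_centralizer_singleton_iff.2 rfl)
  have hEq : orderOf w = Nat.card (centralizer ({w} : Set G)) → centralizer ({w} : Set G) = zpowers w := fun h =>
    (eq_of_le_of_card_ge hle (by rw [Nat.card_zpowers, h])).symm
  obtain ⟨c, hc⟩ : ∃ c, Nat.card (centralizer ({w} : Set G)) = c := ⟨_, rfl⟩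
  rw [hc] at hw hpos hd hEq
  interval_cases c
  · exact absurd (Nat.dvd_one.1 hd) h1
  · exfalso
    have h2 : orderOf w = 2 := ((Nat.dvd_prime Nat.prime_two).1 hd).resolve_left h1
    have heven : Even (Nat.card G) := even_iff_two_dvd.2 (h2 ▸ orderOf_dvd_natCard w)
    obtain ⟨E, hE⟩ := exists_klein hG heven
    obtain ⟨S, hS⟩ := (IsPGroup.of_card (n := 2) hE.card_four : IsPGroup 2 E).exists_le_sylow
    obtain ⟨g, hg⟩ := CfsgLib.Invol.exists_conj_mem_sylow S
      (IsPGroup.of_card (n := 1) (by rw [Nat.card_zpowers, h2]; rfl) : IsPGroup 2 (zpowers w))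
    set v : (S : Subgroup G) := ⟨g * w * g⁻¹, hg w (mem_zpowers w)⟩
    have hCv : Nat.card (centralizer ({(v : G)} : Set G)) = 2 := by
      have e : centralizer ({(v : G)} : Set G) = (centralizer ({w} : Set G)).map (MulAut.conj g).toMonoidHom := by
        ext x
        rw [mem_map_equiv, mem_centralizer_singleton_iff, mem_centralizer_singleton_iff, MulAut.conj_symm_apply]
        show x * (g * w * g⁻¹) = g * w * g⁻¹ * x ↔ _
        constructor <;> intro h
        · calc g⁻¹ * x * g * w = g⁻¹ * (x * (g * w * g⁻¹)) * g := by group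
            _ = g⁻¹ * (g * w * g⁻¹ * x) * g := by rw [h]
            _ = w * (g⁻¹ * x * g) := by group
        · calc x * (g * w * g⁻¹) = g * (g⁻¹ * x * g * w) * g⁻¹ := by group
            _ = g * (w * (g⁻¹ * x * g)) * g⁻¹ := by rw [h]
            _ = g * w * g⁻¹ * x := by group
      rw [e, card_map_of_injective (MulAut.conj g).injective, hc]
    have hv1 : v ≠ 1 := fun h => h1 (by
      rw [orderOf_eq_one_iff]; exact conj_eq_one_iff.1 (congrArg Subtype.val h))
    have hS4 : 4 ≤ Nat.card S := hE.card_four ▸ card_le_of_le hS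
    haveI : Nontrivial (S : Subgroup G) := Finite.one_lt_card_iff_nontrivial.1 (by omega)
    haveI := S.isPGroup'.center_nontrivial
    obtain ⟨⟨z, hz⟩, hz1⟩ := exists_ne (1 : center (S : Subgroup G))
    have hzC : (z : G) ∈ centralizer ({(v : G)} : Set G) :=
      mem_centralizer_singleton_iff.2 (congrArg Subtype.val (mem_center_iff.1 hz v)).symm
    have hCeq : centralizer ({(v : G)} : Set G) = zpowers (v : G) :=
      (eq_of_le_of_card_ge (zpowers_le.2 (mem_centralizer_singleton_iff.2 rfl))
        (by rw [hCv, Nat.card_zpowers]; exact (by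
          show 2 ≤ orderOf (g * w * g⁻¹)
          rw [orderOf_cj, h2]))).symm
    rw [hCeq] at hzC
    have hzv : (z : G) = v := by
      obtain ⟨i, hi, e⟩ := mem_lt hzC
      rw [show orderOf (v : G) = 2 by show orderOf (g * w * g⁻¹) = 2; rw [orderOf_cj, h2]] at hi
      interval_cases i
      · exact absurd (Subtype.ext (Subtype.ext (e.symm.trans (pow_zero _)))) hz1
      · rw [← e, pow_one]
    have hcen : (S : Subgroup G) ≤ centralizer ({(v : G)} : Set G) := fun x hx =>
      mem_centralizer_singleton_iff.2 (by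
        rw [← hzv]; exact congrArg Subtype.val (mem_center_iff.1 hz ⟨x, hx⟩))
    have := card_le_of_le hcen
    omega
  · exact Or.inl (concl_three hG (((Nat.dvd_prime Nat.prime_three).1 hd).resolve_left h1)
      (hEq (((Nat.dvd_prime Nat.prime_three).1 hd).resolve_left h1)))
  · have : orderOf w = 2 ∨ orderOf w = 4 := by
      have := Nat.le_of_dvd (by norm_num) hd
      interval_cases (orderOf w) <;> omega
    rcases this with h2 | h4
    · by_cases hcyc : IsCyclic (centralizer ({w} : Set G))
      · obtain ⟨⟨v, hvC⟩, hv⟩ := hcyc.exists_ofOrder_eq_natCard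
        rw [Subgroup.orderOf_mk, hc] at hv
        have hCv4 : centralizer ({w} : Set G) = zpowers v :=
          (eq_of_le_of_card_ge (zpowers_le.2 hvC) (by rw [hc, Nat.card_zpowers, hv])).symm
        obtain ⟨i, hi, e⟩ := mem_lt (hCv4 ▸ hle (mem_zpowers w) : w ∈ zpowers v)
        have hle' : centralizer ({v} : Set G) ≤ centralizer ({w} : Set G) := fun x hx =>
          mem_centralizer_singleton_iff.2 (by
            rw [← e]; exact ((show Commute x v from mem_centralizer_singleton_iff.1 hx).pow_right i).eq)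
        exact Or.inr (four v hv (le_antisymm (hle'.trans hCv4.le)
          (zpowers_le.2 (mem_centralizer_singleton_iff.2 rfl))))
      · have hK : IsKleinFour (centralizer ({w} : Set G)) :=
          ⟨hc, exp_two hc hcyc⟩
        refine Or.inl (Or.inl (CfsgLib.InvChar.klein_centralizer_altFive w h2 _ le_rfl hK ?_ ?_))
        · rw [relIndex_self]; norm_num
        · rw [subgroupOf_self]; infer_instance
    · exact Or.inr (four w h4 (hEq h4))

end CfsgLib.ClassK.FourCent
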